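-- helper45: package B of S2863 (for helper48): the Suzuki facts about an elementary abelian
-- subgroup of order q of Sz(q): TI, odd products, and reality of elements of odd order.
import Mathlib
import Cfsg.Prelude.Def_LocalStructure
import Cfsg.Agent.Lib.Helper37.SzSol2
import Cfsg.Agent.Lib.Helper37.SzLieC
import Cfsg.Agent.Lib.Helper37.SzPlane
import Cfsg.Agent.Lib.Helper48.FrakL.Defs

set_option autoImplicit false

namespace Cfsg.Agent.Lib.Helper45.FrakL

open Cfsg.Agent.Lib.Helper37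

/-- the three facts of package B, for a subgroup of an abstract group -/
def SzFactsFor (G : Type*) [Group G] (E : Subgroup G) : Prop :=
  (∀ g : G, (∃ e ∈ E, e ≠ 1 ∧ g * e * g⁻¹ ∈ E) → ∀ e ∈ E, g * e * g⁻¹ ∈ E) ∧
  (∀ g : G, (¬ ∀ e ∈ E, g * e * g⁻¹ ∈ E) →
    ∀ y ∈ E, y ≠ 1 → ∀ s ∈ E, s ≠ 1 → Odd (orderOf (y * (g * s * g⁻¹)))) ∧
  (∀ h : G, h ≠ 1 → Odd (orderOf h) →
    ∃ t ∈ E, t ≠ 1 ∧ ∃ g : G,
      (g * t * g⁻¹) * h * (g * t * g⁻¹)⁻¹ ∈ Subgroup.zpowers h ∧
      (g * t * g⁻¹) * h ≠ h * (g * t * g⁻¹))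

/-- the facts are transported along an isomorphism -/
theorem szFactsFor_of_equiv {G H : Type*} [Group G] [Group H] (φ : G ≃* H) (E : Subgroup H)
    (hE : SzFactsFor G (E.comap φ.toMonoidHom)) : SzFactsFor H E := by
  obtain ⟨h1, h2, h3⟩ := hE
  have hmem : ∀ x : G, x ∈ E.comap φ.toMonoidHom ↔ φ x ∈ E := fun x => Iff.rfl
  have hconj : ∀ g e : H, φ (φ.symm g * φ.symm e * (φ.symm g)⁻¹) = g * e * g⁻¹ := by
    intro g e
    rw [map_mul, map_mul, map_inv, MulEquiv.apply_symm_apply, MulEquiv.apply_symm_apply]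
  have hne : ∀ e : H, e ≠ 1 → φ.symm e ≠ 1 := by
    intro e he hc
    apply he
    have := congrArg φ hc
    rwa [MulEquiv.apply_symm_apply, map_one] at this
  refine ⟨?_, ?_, ?_⟩
  · rintro g ⟨e, he, he1, hge⟩ e' he'
    have key := h1 (φ.symm g) ⟨φ.symm e, (hmem _).mpr (by rwa [MulEquiv.apply_symm_apply]),
      hne e he1, (hmem _).mpr (by rwa [hconj])⟩ (φ.symm e')
      ((hmem _).mpr (by rwa [MulEquiv.apply_symm_apply]))
    rw [hmem, hconj] at key
    exact key
  · intro g hg y hy hy1 s hs hs1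
    have hg' : ¬ ∀ e ∈ E.comap φ.toMonoidHom, φ.symm g * e * (φ.symm g)⁻¹ ∈ E.comap φ.toMonoidHom := by
      intro hc
      apply hg
      intro e he
      have := hc (φ.symm e) ((hmem _).mpr (by rwa [MulEquiv.apply_symm_apply]))
      rw [hmem, hconj] at this
      exact this
    have key := h2 (φ.symm g) hg' (φ.symm y) ((hmem _).mpr (by rwa [MulEquiv.apply_symm_apply]))
      (hne y hy1) (φ.symm s) ((hmem _).mpr (by rwa [MulEquiv.apply_symm_apply])) (hne s hs1)
    have e1 : φ (φ.symm y * (φ.symm g * φ.symm s * (φ.symm g)⁻¹)) = y * (g * s * g⁻¹) := by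
      rw [map_mul, hconj, MulEquiv.apply_symm_apply]
    rw [← e1, MulEquiv.orderOf_eq]
    exact key
  · intro x hx1 hxodd
    have hxodd' : Odd (orderOf (φ.symm x)) := by
      rw [MulEquiv.orderOf_eq]
      exact hxodd
    obtain ⟨t, ht, ht1, g, hz, hnc⟩ := h3 (φ.symm x) (hne x hx1) hxodd'
    have ht1' : φ t ≠ 1 := by
      intro hc
      apply ht1
      have := congrArg φ.symm hc
      rwa [MulEquiv.symm_apply_apply, map_one] at this
    refine ⟨φ t, (hmem _).mp ht, ht1', φ g, ?_, ?_⟩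
    · obtain ⟨k, hk⟩ := Subgroup.mem_zpowers_iff.mp hz
      refine Subgroup.mem_zpowers_iff.mpr ⟨k, ?_⟩
      have := congrArg φ hk
      rw [map_zpow, MulEquiv.apply_symm_apply] at this
      rw [this]
      simp only [map_mul, map_inv, MulEquiv.apply_symm_apply]
    · intro hc
      apply hnc
      apply φ.injective
      simp only [map_mul, map_inv, MulEquiv.apply_symm_apply]
      exact hc

/-- the facts for the ovoid model of the Suzuki group -/
theorem szFactsFor_sz {F : Type} [Field F] [Fintype F] {m : ℕ} (hm : 1 ≤ m)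
    (hF : Fintype.card F = 2 ^ (2 * m + 1)) (E : Subgroup ↥(Cfsg.Sz F m))
    (hinv : ∀ e ∈ E, e * e = 1) (hcard : Nat.card ↥E = 2 ^ (2 * m + 1)) :
    SzFactsFor ↥(Cfsg.Sz F m) E := by
  have h := szData_of_card hm hF
  -- `E` is nontrivial
  obtain ⟨e0, he0, he01⟩ : ∃ e0 ∈ E, e0 ≠ 1 := by
    by_contra hcon
    push Not at hcon
    have hbot : E = ⊥ := (Subgroup.eq_bot_iff_forall E).mpr hcon
    rw [hbot, Subgroup.card_bot] at hcard
    have h2 : 2 ^ 1 ≤ 2 ^ (2 * m + 1) := Nat.pow_le_pow_right (by norm_num) (by omega)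
    omega
  -- `E` is abelian
  have hcomm : ∀ a ∈ E, ∀ b ∈ E, a * b = b * a := by
    intro a ha b hb
    have e1 : (a * b)⁻¹ = a * b := inv_eq_of_mul_eq_one_right (hinv _ (E.mul_mem ha hb))
    have e2 : a⁻¹ = a := inv_eq_of_mul_eq_one_right (hinv a ha)
    have e3 : b⁻¹ = b := inv_eq_of_mul_eq_one_right (hinv b hb)
    calc a * b = (a * b)⁻¹ := e1.symm
      _ = b⁻¹ * a⁻¹ := mul_inv_rev a b
      _ = b * a := by rw [e2, e3]
  -- the fixed point of `E`
  obtain ⟨p, hp⟩ := sz_involution_fixes hF e0 (hinv e0 he0)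
  obtain ⟨k, hk⟩ := sz_exists_smul_inf h p
  have hEfix : ∀ e ∈ E, e • p = p := by
    intro e he
    have h1 : e0 • (e • p) = e • p := by
      rw [← mul_smul, hcomm e0 he0 e he, mul_smul, hp]
    exact sz_involution_fix_unique hm hF e0 (hinv e0 he0) he01 _ _ h1 hp
  have hform : ∀ x : ↥(Cfsg.Sz F m), x * x = 1 → x • p = p →
      ∃ c : F, x = k * szTm h 0 c * k⁻¹ := by
    intro x hx hxp
    have ht' : (k⁻¹ * x * k) * (k⁻¹ * x * k) = 1 := by
      have e : (k⁻¹ * x * k) * (k⁻¹ * x * k) = k⁻¹ * (x * x) * k := by group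
      rw [e, hx]
      group
    have hinf : (k⁻¹ * x * k) • oInf F m = oInf F m := by
      rw [mul_smul, mul_smul, hk, hxp, ← hk, inv_smul_smul]
    obtain ⟨b, hb⟩ := sz_involution_inf h _ ht' hinf
    refine ⟨b, ?_⟩
    rw [← hb]
    group
  -- by cardinality `E` is the set of all these elements
  have hEall : ∀ c : F, k * szTm h 0 c * k⁻¹ ∈ E := by
    obtain ⟨f, hf⟩ : ∃ f : F → ↥(Cfsg.Sz F m), f = fun c => k * szTm h 0 c * k⁻¹ := ⟨_, rfl⟩
    have hfc : ∀ c, f c = k * szTm h 0 c * k⁻¹ := fun c => by rw [hf]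
    have hfinj : Function.Injective f := by
      intro c c' hcc
      rw [hfc, hfc] at hcc
      exact (szTm_inj h (mul_left_cancel (mul_right_cancel hcc))).2
    have hsub : (E : Set ↥(Cfsg.Sz F m)) ⊆ Set.range f := by
      intro e he
      obtain ⟨c, hc⟩ := hform e (hinv e he) (hEfix e he)
      exact ⟨c, by rw [hfc, hc]⟩
    have hcardR : (Set.range f).ncard = Fintype.card F := by
      rw [← Nat.card_coe_set_eq, Nat.card_range_of_injective hfinj, Nat.card_eq_fintype_card]
    have hEcard : (E : Set ↥(Cfsg.Sz F m)).ncard = 2 ^ (2 * m + 1) := by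
      rw [← Nat.card_coe_set_eq]
      exact hcard
    have heq := Set.eq_of_subset_of_ncard_le hsub (by rw [hcardR, hEcard, hF]) (Set.toFinite _)
    intro c
    have h1 : f c ∈ (E : Set ↥(Cfsg.Sz F m)) := by
      rw [heq]
      exact ⟨c, rfl⟩
    rw [hfc] at h1
    exact h1
  have hL1 : ∀ x : ↥(Cfsg.Sz F m), x * x = 1 → x • p = p → x ∈ E := by
    intro x hx hxp
    obtain ⟨c, rfl⟩ := hform x hx hxp
    exact hEall c
  have hL3 : ∀ e ∈ E, e ≠ 1 → ∀ p' : ↥(Cfsg.suzukiOvoid F m), e • p' = p' → p' = p :=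
    fun e he he1 p' hp' => sz_involution_fix_unique hm hF e (hinv e he) he1 p' p hp' (hEfix e he)
  have hconjsq : ∀ g x : ↥(Cfsg.Sz F m), x * x = 1 → (g * x * g⁻¹) * (g * x * g⁻¹) = 1 := by
    intro g x hx
    have e : (g * x * g⁻¹) * (g * x * g⁻¹) = g * (x * x) * g⁻¹ := by group
    rw [e, hx]
    group
  have hconjne : ∀ g x : ↥(Cfsg.Sz F m), x ≠ 1 → g * x * g⁻¹ ≠ 1 := by
    intro g x hx hc
    apply hx
    have e : x = g⁻¹ * (g * x * g⁻¹) * g := by group
    rw [e, hc]
    group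
  have hNorm : ∀ g : ↥(Cfsg.Sz F m), g • p = p → ∀ e ∈ E, g * e * g⁻¹ ∈ E := by
    intro g hgp e he
    apply hL1 _ (hconjsq g e (hinv e he))
    have h1 : g⁻¹ • p = p := inv_smul_eq_iff.mpr hgp.symm
    rw [mul_smul, mul_smul, h1, hEfix e he, hgp]
  -- every involution is conjugate to an element of `E`
  have hInvConj : ∀ j : ↥(Cfsg.Sz F m), j * j = 1 → j ≠ 1 →
      ∃ t ∈ E, t ≠ 1 ∧ ∃ g : ↥(Cfsg.Sz F m), g * t * g⁻¹ = j := by
    intro j hj2 hj1
    obtain ⟨p', hp'⟩ := sz_involution_fixes hF j hj2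
    obtain ⟨k', hk'⟩ := sz_exists_smul_inf h p'
    have hmove : (k * k'⁻¹)⁻¹ • p = p' := by
      rw [inv_smul_eq_iff, mul_smul, ← hk', inv_smul_smul, hk]
    refine ⟨(k * k'⁻¹) * j * (k * k'⁻¹)⁻¹, ?_, hconjne _ j hj1, (k * k'⁻¹)⁻¹, by group⟩
    apply hL1 _ (hconjsq _ j hj2)
    rw [mul_smul, mul_smul, hmove, hp', ← hmove, smul_inv_smul]
  refine ⟨?_, ?_, ?_⟩
  · -- TI
    rintro g ⟨e, he, he1, hge⟩
    have h1 : (g * e * g⁻¹) • (g • p) = g • p := by
      rw [mul_smul, mul_smul, inv_smul_smul, hEfix e he]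
    exact hNorm g (hL3 _ hge (hconjne g e he1) _ h1)
  · -- products of odd order
    intro g hg y hy hy1 s hs hs1
    have hgp : g • p ≠ p := fun hc => hg (hNorm g hc)
    by_contra hodd
    rw [Nat.not_odd_iff_even] at hodd
    obtain ⟨s', hs'⟩ : ∃ s', s' = g * s * g⁻¹ := ⟨_, rfl⟩
    rw [← hs'] at hodd
    have hs'2 : s' * s' = 1 := by
      rw [hs']
      exact hconjsq g s (hinv s hs)
    have hs'1 : s' ≠ 1 := by
      rw [hs']
      exact hconjne g s hs1
    have hs'fix : s' • (g • p) = g • p := by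
      rw [hs', mul_smul, mul_smul, inv_smul_smul, hEfix s hs]
    obtain ⟨d, hd⟩ : ∃ d, d = y * s' := ⟨_, rfl⟩
    rw [← hd] at hodd
    have h2 : 2 ∣ orderOf d := hodd.two_dvd
    have hpos : 0 < orderOf d := orderOf_pos d
    have ho : orderOf (d ^ (orderOf d / 2)) = 2 := orderOf_pow_orderOf_div hpos.ne' h2
    obtain ⟨u, hu⟩ : ∃ u, u = d ^ (orderOf d / 2) := ⟨_, rfl⟩
    rw [← hu] at ho
    have hu2 : u * u = 1 := by
      have h0 := pow_orderOf_eq_one u
      rw [ho] at h0
      rw [← pow_two]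
      exact h0
    have hu1 : u ≠ 1 := by
      intro hc
      rw [hc, orderOf_one] at ho
      omega
    have hyinv : y⁻¹ = y := inv_eq_of_mul_eq_one_right (hinv y hy)
    have hsinv : s'⁻¹ = s' := inv_eq_of_mul_eq_one_right hs'2
    have huinv : u⁻¹ = u := inv_eq_of_mul_eq_one_right hu2
    have hyd : y * d * y⁻¹ = d⁻¹ := by
      rw [hd, mul_inv_rev, hsinv, hyinv, ← mul_assoc, hinv y hy, one_mul]
    have hsd : s' * d * s'⁻¹ = d⁻¹ := by
      rw [hd, mul_inv_rev, hsinv, hyinv, mul_assoc, mul_assoc, hs'2, mul_one]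
    have hyu : y * u = u * y := by
      have e : y * u * y⁻¹ = u := by
        rw [hu, ← conj_pow, hyd, inv_pow, ← hu, huinv]
      exact mul_inv_eq_iff_eq_mul.mp e
    have hsu : s' * u = u * s' := by
      have e : s' * u * s'⁻¹ = u := by
        rw [hu, ← conj_pow, hsd, inv_pow, ← hu, huinv]
      exact mul_inv_eq_iff_eq_mul.mp e
    obtain ⟨p', hp'⟩ := sz_involution_fixes hF u hu2
    have h3 : u • (y • p') = y • p' := by
      rw [← mul_smul, ← hyu, mul_smul, hp']
    have h4 : y • p' = p' := sz_involution_fix_unique hm hF u hu2 hu1 _ _ h3 hp'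
    have h5 : p' = p := hL3 y hy hy1 p' h4
    have h6 : u • (s' • p') = s' • p' := by
      rw [← mul_smul, ← hsu, mul_smul, hp']
    have h7 : s' • p' = p' := sz_involution_fix_unique hm hF u hu2 hu1 _ _ h6 hp'
    have h8 : p' = g • p := sz_involution_fix_unique hm hF s' hs'2 hs'1 _ _ h7 hs'fix
    exact hgp (h8.symm.trans h5)
  · -- reality of the elements of odd order
    intro x hx1 hxodd
    have hx2 : x * x ≠ 1 := by
      intro hc
      have h1 : orderOf x ∣ 2 := orderOf_dvd_of_pow_eq_one (by rw [pow_two]; exact hc)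
      have h2 : orderOf x = 1 := hxodd.coprime_two_right.eq_one_of_dvd h1
      exact hx1 (orderOf_eq_one_iff.mp h2)
    have hx4 : x * x * (x * x) ≠ 1 := by
      intro hc
      have e4 : x ^ (2 ^ 2) = x * x * (x * x) := by
        rw [show (2 : ℕ) ^ 2 = 2 + 2 from rfl, pow_add, pow_two]
      have h1 : orderOf x ∣ 2 ^ 2 := orderOf_dvd_of_pow_eq_one (by rw [e4]; exact hc)
      have h2 : orderOf x = 1 := (hxodd.coprime_two_right.pow_right 2).eq_one_of_dvd h1
      exact hx1 (orderOf_eq_one_iff.mp h2)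
    have key : ∃ j : ↥(Cfsg.Sz F m), j * j = 1 ∧ j * x * j⁻¹ = x⁻¹ := by
      by_cases hfp : szFpf x
      · have hN := szFpf_norm_card hm hF x hfp
        have h2 : 2 ∣ Nat.card ↥(szNT x) := by
          rw [hN]
          exact ⟨2 * Nat.card ↥(Subgroup.centralizer ({x} : Set ↥(Cfsg.Sz F m))), by ring⟩
        have : Fact (Nat.Prime 2) := ⟨Nat.prime_two⟩
        obtain ⟨t0, ht0⟩ := exists_prime_orderOf_dvd_card' 2 h2
        obtain ⟨t, ht⟩ : ∃ t : ↥(Cfsg.Sz F m), t = (t0 : ↥(Cfsg.Sz F m)) := ⟨_, rfl⟩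
        have hto : orderOf t = 2 := by
          rw [ht, Subgroup.orderOf_coe, ht0]
        have htN : t ∈ szNT x := by
          rw [ht]
          exact t0.2
        have ht2 : t * t = 1 := by
          have h0 := pow_orderOf_eq_one t
          rw [hto] at h0
          rw [← pow_two]
          exact h0
        have ht1 : t ≠ 1 := by
          intro hc
          rw [hc, orderOf_one] at hto
          omega
        have htinv : t⁻¹ = t := inv_eq_of_mul_eq_one_right ht2
        have hxC : x ∈ Subgroup.centralizer ({x} : Set ↥(Cfsg.Sz F m)) := self_mem_cent x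
        have hconjC : t * x * t⁻¹ ∈ Subgroup.centralizer ({x} : Set ↥(Cfsg.Sz F m)) :=
          (Subgroup.mem_normalizer_iff.mp htN x).mp hxC
        have hcyc := szFpf_centralizer_cyclic hm hF x hfp
        obtain ⟨w, hw⟩ : ∃ w, w = x * (t * x * t⁻¹) := ⟨_, rfl⟩
        have hwC : w ∈ Subgroup.centralizer ({x} : Set ↥(Cfsg.Sz F m)) := by
          rw [hw]
          exact Subgroup.mul_mem _ hxC hconjC
        have htw : t * w = w * t := by
          have e1 : t * w * t⁻¹ = (t * x * t⁻¹) * x := by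
            rw [hw, htinv]
            calc t * (x * (t * x * t)) * t = (t * x * t) * x * (t * t) := by group
              _ = (t * x * t) * x := by rw [ht2, mul_one]
          have e2 : (t * x * t⁻¹) * x = w := by
            rw [hw]
            exact cyc_sub_comm _ hcyc _ _ hconjC hxC
          rw [e2] at e1
          exact mul_inv_eq_iff_eq_mul.mp e1
        have hw1 : w = 1 := by
          by_contra hw1
          have hwx : w * x = x * w := ((mem_cent_singleton x w).mp hwC).symm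
          have hwf : szFpf w := szFpf_of_commute hm hF x w hfp hw1 hwx
          have htf : szFpf t := szFpf_of_commute hm hF w t hwf ht1 htw
          apply szFpf_orderOf_odd hm hF t htf
          rw [hto]
        refine ⟨t, ht2, ?_⟩
        rw [hw] at hw1
        exact eq_inv_of_mul_eq_one_right hw1
      · unfold szFpf at hfp
        push Not at hfp
        obtain ⟨ω', hω'⟩ := hfp
        obtain ⟨g, μ, hgμ⟩ := sz_conj_torus h x ω' hω' hx4
        have hxe : x = g * szHsub h μ * g⁻¹ := by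
          rw [← hgμ]
          group
        refine ⟨g * szWm h * g⁻¹, hconjsq g _ (szWm_mul_self h), ?_⟩
        have e1 : (g * szWm h * g⁻¹)⁻¹ = g * szWm h * g⁻¹ :=
          inv_eq_of_mul_eq_one_right (hconjsq g _ (szWm_mul_self h))
        rw [e1, hxe]
        have e2 : g * szWm h * g⁻¹ * (g * szHsub h μ * g⁻¹) * (g * szWm h * g⁻¹) =
            g * (szWm h * szHsub h μ * szWm h) * g⁻¹ := by group
        rw [e2, szWm_conj_szHsub, ← szHsub_inv]
        group
    obtain ⟨j, hj2, hjx⟩ := key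
    have hj1 : j ≠ 1 := by
      rintro rfl
      rw [one_mul, inv_one, mul_one] at hjx
      apply hx2
      nth_rewrite 1 [hjx]
      exact inv_mul_cancel x
    obtain ⟨t, htE, ht1, g, hgt⟩ := hInvConj j hj2 hj1
    refine ⟨t, htE, ht1, g, ?_, ?_⟩
    · rw [hgt, hjx]
      exact Subgroup.inv_mem _ (Subgroup.mem_zpowers x)
    · rw [hgt]
      intro hc
      apply hx2
      have e : j * x * j⁻¹ = x := by
        rw [hc, mul_inv_cancel_right]
      rw [hjx] at e
      nth_rewrite 1 [← e]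
      exact inv_mul_cancel x

/-- Package B of S2863. -/
theorem szFacts : Cfsg.Agent.Lib.Helper48.FrakL.SzFacts := by
  intro F _ _ m hm hF E hinv hcard
  have h := szData_of_card hm hF
  obtain ⟨φ, hφ⟩ : ∃ φ : ↥(Cfsg.Sz F m) ≃* ↥(Cfsg.Lie.Sz F (2 ^ (m + 1))), φ = szLieEquiv h :=
    ⟨_, rfl⟩
  have hinv' : ∀ e ∈ E.comap φ.toMonoidHom, e * e = 1 := by
    intro e he
    have h1 := hinv (φ e) he
    apply φ.injective
    rw [map_mul, map_one]
    exact h1
  have hcard' : Nat.card ↥(E.comap φ.toMonoidHom) = 2 ^ (2 * m + 1) := by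
    rw [← hcard, Subgroup.comap_equiv_eq_map_symm']
    exact Subgroup.card_map_of_injective φ.symm.injective
  exact szFactsFor_of_equiv φ E (szFactsFor_sz hm hF _ hinv' hcard')

end Cfsg.Agent.Lib.Helper45.FrakL
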